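import Mathlib

/-!
# Data for the map of the presented group `PE` (cover of `M₂₂`) onto `Cfsg.Spor.M22`

Points are numbered `0..23` (`i < 23` is the residue `i`, `23` is the extra point `none`); the tables give the image of
each point.  Words are lists of letter codes: `0,1 = x,x⁻¹`, `2,3 = y,y⁻¹`, `4,5 = v,v⁻¹`; a word `[l₁, …, l_k]` stands for
the product `l₁ * ⋯ * l_k` of permutations (so the last letter acts first).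
`chain1`: for every `t = 1..22` a word mapping point `1` to `t`; `chain2`: words fixing `1` and mapping `2` to `t = 2..22`;
`chain3`: words fixing `1, 2` and mapping `3` to `t = 3..22`; `chain4`: the 48 elements fixing `1, 2, 3`.
Hence the three permutations generate a group of order at least `22 * 21 * 20 * 48 = 443520`.
-/

namespace Cfsg.Agent.Helper96.M22c

/-- image table of `x` (order 7) -/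
def xT : List ℕ := [0, 5, 19, 18, 20, 7, 15, 3, 21, 12, 16, 22, 17, 2, 14, 10, 13, 11, 4, 6, 1, 9, 8, 23]
/-- image table of `y` (order 5) -/
def yT : List ℕ := [0, 21, 10, 20, 12, 7, 15, 11, 4, 22, 6, 18, 1, 13, 5, 16, 2, 3, 14, 19, 9, 8, 17, 23]
/-- image table of `v` (order 5) -/
def vT : List ℕ := [0, 22, 5, 3, 15, 8, 7, 2, 6, 19, 4, 1, 20, 14, 11, 17, 10, 16, 18, 12, 21, 9, 13, 23]
/-- words mapping the point `1` to `1, 2, …, 22` -/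
def chain1 : List (List ℕ) := [[], [5, 0], [3, 1], [1, 1], [0], [0, 5, 3], [0, 0], [0, 4], [0, 2], [2, 5, 0], [5], [3], [4, 4], [3, 0], [4, 1, 1], [1, 4, 4], [0, 3], [2, 5], [5, 3], [1], [2], [4]]
/-- words fixing `1` and mapping `2` to `2, …, 22` -/
def chain2 : List (List ℕ) := [[], [5, 0, 5], [0, 3, 3, 4], [2, 0, 3, 4], [1, 2, 5, 5], [2, 1, 2, 4], [3, 3, 4, 0], [2, 0, 4, 2], [0, 3, 0, 2], [3, 1, 4, 2], [4, 2, 2, 0], [0, 5, 2], [1, 3, 3, 5], [1, 3, 0, 0], [0, 4, 3], [2, 5, 1], [3, 4, 1], [0, 3, 1, 3], [1, 1, 3, 5], [0, 3, 4, 2], [4, 1, 4]]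
/-- words fixing `1, 2` and mapping `3` to `3, …, 22` -/
def chain3 : List (List ℕ) := [[], [0, 2, 0, 4, 4, 1, 2], [2, 1, 3, 3, 1], [0, 5, 1, 3, 4], [2, 5, 0, 3, 3], [0, 0, 0, 3, 5, 5], [5, 2, 0, 4, 1], [3, 1, 4, 0, 4, 0], [0, 0, 2, 1, 2], [3, 3, 1, 1, 1, 3], [2, 0, 4, 1, 2, 1], [0, 2, 2, 0, 3], [2, 2, 1, 4, 3], [0, 3, 0, 5, 1, 3], [1, 2, 1, 5, 5], [3, 0, 3, 1, 1], [0, 4, 0, 4, 4, 1], [1, 4, 0, 3, 4, 4], [0, 2, 5, 1, 5, 2, 5], [1, 5, 2, 4, 4, 3]]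
/-- words for the 48 elements fixing `1, 2, 3` -/
def chain4 : List (List ℕ) := [[], [4, 0, 3, 0, 3, 5], [1, 2, 5, 3, 4, 2, 5], [1, 3, 1, 5, 0, 3, 5], [1, 3, 1, 5, 2, 1, 5], [2, 1, 1, 3, 3, 5, 5], [2, 2, 0, 3, 0, 5, 5], [4, 4, 1, 2, 1, 3, 3], [0, 0, 2, 2, 1, 5, 5, 3], [0, 0, 2, 4, 0, 3, 4, 1], [0, 0, 2, 5, 5, 1, 3, 1], [0, 0, 3, 0, 3, 3, 0, 3], [0, 0, 5, 1, 5, 1, 5, 2], [0, 2, 2, 4, 2, 5, 2, 0], [0, 3, 0, 2, 1, 3, 0, 0], [0, 3, 5, 5, 0, 3, 0, 5], [0, 4, 2, 5, 0, 4, 0, 4], [0, 4, 4, 2, 5, 0, 4, 2], [0, 5, 0, 2, 4, 3, 3, 4], [0, 5, 0, 5, 1, 5, 0, 3], [0, 5, 2, 1, 5, 3, 1, 1], [1, 3, 4, 3, 5, 3, 3, 1], [2, 1, 4, 0, 4, 1, 4, 1], [2, 2, 5, 2, 0, 4, 3, 4], [2, 4, 2, 0, 5, 1, 3, 5], [3, 0, 2, 4, 0, 0, 2, 5], [3, 3, 0, 5, 2, 2, 4, 4], [3, 5, 1, 4, 3, 5, 5, 1], [4, 1, 2, 1, 4, 4, 2, 1], [5, 2, 2,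 5, 3, 1, 4, 1], [0, 0, 0, 4, 4, 1, 2, 0, 4], [0, 2, 0, 5, 5, 0, 3, 4, 1], [0, 2, 4, 1, 3, 5, 2, 0, 0], [0, 2, 4, 2, 2, 5, 3, 4, 4], [0, 3, 4, 3, 5, 0, 4, 0, 2], [0, 3, 5, 0, 3, 4, 4, 2, 4], [0, 4, 0, 3, 1, 4, 3, 0, 0], [0, 5, 0, 2, 5, 3, 3, 1, 5], [1, 1, 3, 4, 2, 0, 5, 3, 1], [1, 1, 5, 2, 1, 5, 1, 3, 0], [1, 2, 4, 0, 0, 0, 5, 0, 3], [1, 2, 5, 0, 2, 5, 1, 5, 0], [1, 5, 1, 1, 2, 1, 5, 0, 5], [1, 5, 3, 3, 0, 4, 3, 0, 4], [2, 1, 2, 0, 2, 2, 5, 0, 4], [2, 5, 2, 4, 0, 4, 4, 0, 4], [4, 0, 2, 2, 4, 4, 3, 3, 4], [0, 0, 4, 3, 0, 4, 2, 0, 3, 3]]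

end Cfsg.Agent.Helper96.M22c
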