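import Cfsg.Prelude.Def_SporCoxeter

set_option autoImplicit false

/-!
# Presentations used for the Schur multiplier of `M₂₂` (S2036)

`PE`: a presentation of the full covering group `12.M₂₂` on generators `x` (order 7), `y`, `v` (order 5) and a central
generator `a` (order 12).  Apart from the definition of `a` and its centrality, every relator is a power relation or says
that a conjugate of a power of a generator is a power of a generator, so it holds in every stem extension of `M₂₂` for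
the lifts of order 7, 5, 5.  `PB`: the covering group `6.A₇` of the subgroup generated by `x, y`; `PX`: the cyclic group
of order 7.
-/

namespace Cfsg.Agent.Helper96.M22c

namespace PE

/-- the generators -/
inductive Gen
  | x
  | y
  | v
  | a
  deriving DecidableEq

/-- the generator x as a word -/ abbrev x : FreeGroup Gen := FreeGroup.of Gen.x
/-- the generator y as a word -/ abbrev y : FreeGroup Gen := FreeGroup.of Gen.y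
/-- the generator v as a word -/ abbrev v : FreeGroup Gen := FreeGroup.of Gen.v
/-- the generator a as a word -/ abbrev a : FreeGroup Gen := FreeGroup.of Gen.a

/-- no Coxeter graph -/
def edges : List (Gen × ℕ × Gen) := []

/-- the relators: powers, conjugation relations, definition of `a`, centrality -/
def extra : List (FreeGroup Gen) := [
  x * x * x * x * x * x * x,
  y * y * y * y * y,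
  v * v * v * v * v,
  x * y⁻¹ * y⁻¹ * x * x * x * y * x⁻¹ * x⁻¹ * x⁻¹ * y * y * x⁻¹ * y⁻¹ * y⁻¹,
  x⁻¹ * x⁻¹ * x⁻¹ * y * y * x⁻¹ * y * x * y⁻¹ * y⁻¹ * x * x * x * y * y,
  x⁻¹ * x⁻¹ * y * x⁻¹ * y⁻¹ * y⁻¹ * x⁻¹ * y * x * y * y * x * y⁻¹ * x * x * y,
  x * x * x * y * x⁻¹ * y * x * y * x⁻¹ * y⁻¹ * x * y⁻¹ * x⁻¹ * x⁻¹ * x⁻¹ * y⁻¹ * y⁻¹,
  x * x * x * y * x⁻¹ * y * x * y * y * x⁻¹ * y⁻¹ * x * y⁻¹ * x⁻¹ * x⁻¹ * x⁻¹ * y,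
  y * x * y * y * x * y⁻¹ * y⁻¹ * x * x * y * y * x⁻¹ * y⁻¹ * y⁻¹ * x⁻¹ * y⁻¹ * x⁻¹,
  y * x * y * y * x * y⁻¹ * y⁻¹ * x * y * y * x⁻¹ * y⁻¹ * y⁻¹ * x⁻¹ * y⁻¹ * x * x * x,
  x⁻¹ * x⁻¹ * y * x⁻¹ * y⁻¹ * y⁻¹ * x⁻¹ * y * y * x * y * y * x * y⁻¹ * x * x * y * y,
  x * x * y⁻¹ * x⁻¹ * y⁻¹ * x * y * x * y * x⁻¹ * y⁻¹ * x⁻¹ * y * x * y * x⁻¹ * x⁻¹ * y,
  y * x⁻¹ * y⁻¹ * x⁻¹ * y⁻¹ * x * x * y * x * y⁻¹ * x⁻¹ * x⁻¹ * y * x * y * x * y⁻¹ * x⁻¹,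
  v * x⁻¹ * y⁻¹ * v * x⁻¹ * v⁻¹ * x * x * x * v * x * v⁻¹ * y * x * v⁻¹ * x⁻¹ * x⁻¹ * x⁻¹,
  y * x⁻¹ * y * v⁻¹ * y * y * x * x * y * x⁻¹ * x⁻¹ * y⁻¹ * y⁻¹ * v * y⁻¹ * x * y⁻¹ * v⁻¹,
  x * x * v * x * v⁻¹ * y * x * v * v * x⁻¹ * y⁻¹ * v * x⁻¹ * v⁻¹ * x⁻¹ * x⁻¹ * v⁻¹ * v⁻¹,
  x * x * v * x * v⁻¹ * y * x * v⁻¹ * y * v * x⁻¹ * y⁻¹ * v * x⁻¹ * v⁻¹ * x⁻¹ * x⁻¹ * y⁻¹,
  x * v⁻¹ * x * x * v * x * v⁻¹ * y * y * v * x⁻¹ * v⁻¹ * x⁻¹ * x⁻¹ * v * x⁻¹ * y⁻¹ * y⁻¹,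
  v * y * v * x⁻¹ * v * v * x * x * v * x⁻¹ * x⁻¹ * v⁻¹ * v⁻¹ * x * v⁻¹ * y⁻¹ * v⁻¹ * y⁻¹,
  x * v⁻¹ * y * x * v⁻¹ * x * x * v * y * v⁻¹ * x⁻¹ * x⁻¹ * v * x⁻¹ * y⁻¹ * v * x⁻¹ * y⁻¹,
  x * x * v * y⁻¹ * x * y⁻¹ * y⁻¹ * x⁻¹ * y * x * y * y * x⁻¹ * y * v⁻¹ * x⁻¹ * x⁻¹ * v,
  x * v⁻¹ * y * x * v⁻¹ * x * x * v * v * x⁻¹ * x⁻¹ * v * x⁻¹ * y⁻¹ * v * x⁻¹ * v⁻¹ * v⁻¹,
  x * v * x * v⁻¹ * y * x * v⁻¹ * x * y * x⁻¹ * v * x⁻¹ * y⁻¹ * v * x⁻¹ * v⁻¹ * x⁻¹ * y⁻¹,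
  v * y * v * x * v * y * x * y * v * y⁻¹ * x⁻¹ * y⁻¹ * v⁻¹ * x⁻¹ * v⁻¹ * y⁻¹ * v⁻¹ * y⁻¹,
  x * x * v * x * v⁻¹ * y * x * v⁻¹ * a⁻¹,
  a * x * a⁻¹ * x⁻¹,
  a * y * a⁻¹ * y⁻¹,
  a * v * a⁻¹ * v⁻¹ ]

end PE

namespace PB

/-- the generators -/
inductive Gen
  | x
  | y
  deriving DecidableEq

/-- the generator x as a word -/ abbrev x : FreeGroup Gen := FreeGroup.of Gen.x
/-- the generator y as a word -/ abbrev y : FreeGroup Gen := FreeGroup.of Gen.y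

/-- no Coxeter graph -/
def edges : List (Gen × ℕ × Gen) := []

/-- the relators: the relators of `PE` that only involve `x, y` -/
def extra : List (FreeGroup Gen) := [
  x * x * x * x * x * x * x,
  y * y * y * y * y,
  x * y⁻¹ * y⁻¹ * x * x * x * y * x⁻¹ * x⁻¹ * x⁻¹ * y * y * x⁻¹ * y⁻¹ * y⁻¹,
  x⁻¹ * x⁻¹ * x⁻¹ * y * y * x⁻¹ * y * x * y⁻¹ * y⁻¹ * x * x * x * y * y,
  x⁻¹ * x⁻¹ * y * x⁻¹ * y⁻¹ * y⁻¹ * x⁻¹ * y * x * y * y * x * y⁻¹ * x * x * y,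
  x * x * x * y * x⁻¹ * y * x * y * x⁻¹ * y⁻¹ * x * y⁻¹ * x⁻¹ * x⁻¹ * x⁻¹ * y⁻¹ * y⁻¹,
  x * x * x * y * x⁻¹ * y * x * y * y * x⁻¹ * y⁻¹ * x * y⁻¹ * x⁻¹ * x⁻¹ * x⁻¹ * y,
  y * x * y * y * x * y⁻¹ * y⁻¹ * x * x * y * y * x⁻¹ * y⁻¹ * y⁻¹ * x⁻¹ * y⁻¹ * x⁻¹,
  y * x * y * y * x * y⁻¹ * y⁻¹ * x * y * y * x⁻¹ * y⁻¹ * y⁻¹ * x⁻¹ * y⁻¹ * x * x * x,
  x⁻¹ * x⁻¹ * y * x⁻¹ * y⁻¹ * y⁻¹ * x⁻¹ * y * y * x * y * y * x * y⁻¹ * x * x * y * y,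
  x * x * y⁻¹ * x⁻¹ * y⁻¹ * x * y * x * y * x⁻¹ * y⁻¹ * x⁻¹ * y * x * y * x⁻¹ * x⁻¹ * y,
  y * x⁻¹ * y⁻¹ * x⁻¹ * y⁻¹ * x * x * y * x * y⁻¹ * x⁻¹ * x⁻¹ * y * x * y * x * y⁻¹ * x⁻¹ ]

end PB

namespace PX

/-- the generators -/
inductive Gen
  | x
  deriving DecidableEq

/-- the generator x as a word -/ abbrev x : FreeGroup Gen := FreeGroup.of Gen.x

/-- no Coxeter graph -/
def edges : List (Gen × ℕ × Gen) := []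

/-- the relators: `x ^ 7` -/
def extra : List (FreeGroup Gen) := [
  x * x * x * x * x * x * x ]

end PX

end Cfsg.Agent.Helper96.M22c
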