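import Cfsg.Agent.Helper96.M22c.Order
import Cfsg.Agent.Helper96.M22c.Perm2.Main
import Cfsg.Agent.Helper96.M22c.Perm3.Main
import Cfsg.Prelude.Def_KGroupFacts

set_option autoImplicit false
set_option maxRecDepth 1000000

/-!
# Structure of the presented covering group `E = 12.M₂₂`: the central element `a`

`a` is central; two permutation representations of `E` (on 32256 points, where `a` has order 4, and on 1386 points,
where `a` has order 3) together show that `a` has order at least 12.
-/

namespace Cfsg.Agent.Helper96.M22c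

open Cfsg.Agent.Helper28 Cfsg.Spor

/-- the generators of `E` -/
def eg (g : PE.Gen) : E := PresentedGroup.of g

theorem mk_of (g : PE.Gen) : (PresentedGroup.mk RE (FreeGroup.of g) : E) = eg g := rfl

theorem rel_eq_one (r : FreeGroup PE.Gen) (hr : r ∈ PE.extra) : (PresentedGroup.mk RE r : E) = 1 :=
  (PresentedGroup.mk_eq_one_iff).mpr (Subgroup.subset_normalClosure (Or.inr hr))

theorem closure_eg : Subgroup.closure (Set.range eg) = ⊤ := PresentedGroup.closure_range_of RE

/-! ### commutation -/

theorem comm_of_rel (z g : PE.Gen)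
    (h : FreeGroup.of z * FreeGroup.of g * (FreeGroup.of z)⁻¹ * (FreeGroup.of g)⁻¹ ∈ PE.extra) :
    eg z * eg g = eg g * eg z := by
  have := rel_eq_one _ h
  simp only [map_mul, map_inv, mk_of] at this
  have h2 : eg z * eg g = (eg z * eg g * (eg z)⁻¹ * (eg g)⁻¹) * (eg g * eg z) := by group
  rw [h2, this, one_mul]

theorem mem_center_of_comm (z : E) (h : ∀ g : PE.Gen, z * eg g = eg g * z) : z ∈ Subgroup.center E := by
  rw [Subgroup.mem_center_iff]
  intro y
  have hy : y ∈ Subgroup.closure (Set.range eg) := by rw [closure_eg]; trivial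
  induction hy using Subgroup.closure_induction with
  | mem s hs => obtain ⟨g, rfl⟩ := hs; exact (h g).symm
  | one => simp
  | mul a b _ _ ha hb => rw [mul_assoc, hb, ← mul_assoc, ha, mul_assoc]
  | inv a _ ha =>
    have : a⁻¹ * z = a⁻¹ * (z * a) * a⁻¹ := by group
    rw [this, ← ha]; group

theorem ea_center : eg .a ∈ Subgroup.center E := by
  apply mem_center_of_comm
  intro g
  cases g
  · exact comm_of_rel .a .x (by decide +kernel)
  · exact comm_of_rel .a .y (by decide +kernel)
  · exact comm_of_rel .a .v (by decide +kernel)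
  · rfl

/-! ### the permutation representations -/

/-- the representation on 32256 points (cosets of a subgroup `3 × 11:5`) -/
noncomputable def rho2 : E →* Equiv.Perm (Fin Perm2.ptabs.n) := Perm2.rho
/-- the representation on 1386 points (cosets of a subgroup `4.2⁴:A₅`) -/
noncomputable def rho3 : E →* Equiv.Perm (Fin Perm3.ptabs.n) := Perm3.rho

/-- the word `a ^ m` in letter codes -/
def kw (m : ℕ) : List ℕ := List.replicate m 6

theorem kw_lt (m : ℕ) : ∀ l ∈ kw m, l < 8 := by
  intro l hl
  simp only [kw, List.mem_replicate] at hl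
  rcases hl with ⟨-, rfl⟩; norm_num

theorem ev_kw (gen : ℕ → PE.Gen) (h3 : gen 3 = .a) (m : ℕ) :
    ev gen 4 (kw m) = FreeGroup.of PE.Gen.a ^ m := by
  have e6 : lam (gF gen 4) 6 = FreeGroup.of PE.Gen.a := by
    simp [lam, gF, h3]
  unfold ev kw wv
  rw [List.map_replicate, List.prod_replicate, e6]

theorem rho2_ne_one_of_trace (w : List Nat) (hw : ∀ l ∈ w, l < Perm2.ptabs.L)
    (h : trace Perm2.ptabs.perm w 0 ≠ 0) : rho2 (PresentedGroup.mk RE (ev Perm2.gen 4 w)) ≠ 1 := by
  intro h1
  have := rhoF_ev_inv Perm2.gen Perm2.idx 4 Perm2.ptabs Perm2.inv_ok Perm2.layout.hL Perm2.layout.hig w hw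
    ⟨0, Perm2.hn⟩
  have h1' : Perm2.rho (PresentedGroup.mk RE (ev Perm2.gen 4 w)) = 1 := h1
  unfold Perm2.rho at h1'
  erw [h1'] at this
  simp at this
  exact h this.symm

theorem rho3_ne_one_of_trace (w : List Nat) (hw : ∀ l ∈ w, l < Perm3.ptabs.L)
    (h : trace Perm3.ptabs.perm w 0 ≠ 0) : rho3 (PresentedGroup.mk RE (ev Perm3.gen 4 w)) ≠ 1 := by
  intro h1
  have := rhoF_ev_inv Perm3.gen Perm3.idx 4 Perm3.ptabs Perm3.inv_ok Perm3.layout.hL Perm3.layout.hig w hw
    ⟨0, Perm3.hn⟩
  have h1' : Perm3.rho (PresentedGroup.mk RE (ev Perm3.gen 4 w)) = 1 := h1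
  unfold Perm3.rho at h1'
  erw [h1'] at this
  simp at this
  exact h this.symm

end Cfsg.Agent.Helper96.M22c
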