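import Cfsg.Agent.Helper96.M22c.Kernel

set_option autoImplicit false
set_option maxRecDepth 1000000

/-!
# The two permutation representations together are faithful on the powers `a ^ m`, `0 < m < 12`
-/

namespace Cfsg.Agent.Helper96.M22c

open Cfsg.Agent.Helper28 Cfsg.Spor

/-- the product of the two representations -/
noncomputable def psi : E →* Equiv.Perm (Fin Perm2.ptabs.n) × Equiv.Perm (Fin Perm3.ptabs.n) :=
  rho2.prod rho3

theorem chk_trace : ∀ m, m < 12 → m ≠ 0 →
    (trace Perm2.ptabs.perm (kw m) 0 ≠ 0 ∨ trace Perm3.ptabs.perm (kw m) 0 ≠ 0) := by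
  decide +kernel

theorem mk_kw (m : ℕ) :
    (PresentedGroup.mk RE (FreeGroup.of PE.Gen.a ^ m) : E) = eg .a ^ m := by
  rw [map_pow]; rfl

theorem psi_a_pow_ne : ∀ m, 0 < m → m < 12 → psi (eg .a) ^ m ≠ 1 := by
  intro m hm0 hm h
  have h1 : psi (eg .a ^ m) = 1 := by rw [map_pow]; exact h
  have c2 : rho2 (eg .a ^ m) = 1 := congrArg (fun t => t.1) h1
  have c3 : rho3 (eg .a ^ m) = 1 := congrArg (fun t => t.2) h1
  have hlt : ∀ l ∈ kw m, l < 8 := kw_lt m
  rcases chk_trace m hm (by omega) with t | t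
  · have := rho2_ne_one_of_trace (kw m) hlt t
    rw [ev_kw Perm2.gen rfl, mk_kw] at this
    exact this c2
  · have := rho3_ne_one_of_trace (kw m) hlt t
    rw [ev_kw Perm3.gen rfl, mk_kw] at this
    exact this c3

end Cfsg.Agent.Helper96.M22c
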