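import Cfsg.Agent.Helper96.M22c.Kernel
import Cfsg.Agent.Helper96.Cover.Apriori

set_option autoImplicit false
set_option maxRecDepth 1000000

/-!
# Lifting the generators of `E` to a stem extension of `M₂₂`

The relators of `E`, in structured form, and the images of the generators in a stem extension `σ : Γ →* G`:
`x, y, v` go to the lifts of order `7, 5, 5`, and `a` to the value of its defining word.
-/

namespace Cfsg.Agent.Helper96.M22c

open Cfsg.Agent.Helper28 Cfsg.Spor Cfsg.Agent.Helper96.Cover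

/-- orders of the generators `x, y, v` (and `0` for the central generator) -/
def ord : PE.Gen → ℕ
  | .x => 7 | .y => 5 | .v => 5 | .a => 0

/-- the conjugation relators `c * g ^ s * c⁻¹ * h ^ t` as data `(c, g, inverse?, s, h, inverse?, t)` -/
def p1data : List (FreeGroup PE.Gen × PE.Gen × Bool × ℕ × PE.Gen × Bool × ℕ) := [
  (PE.x * PE.y⁻¹ * PE.y⁻¹ * PE.x * PE.x * PE.x, .y, false, 1, .y, true, 2),
  (PE.x⁻¹ * PE.x⁻¹ * PE.x⁻¹ * PE.y * PE.y * PE.x⁻¹, .y, false, 1, .y, false, 2),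
  (PE.x⁻¹ * PE.x⁻¹ * PE.y * PE.x⁻¹ * PE.y⁻¹ * PE.y⁻¹ * PE.x⁻¹, .y, false, 1, .y, false, 1),
  (PE.x * PE.x * PE.x * PE.y * PE.x⁻¹ * PE.y * PE.x, .y, false, 1, .y, true, 2),
  (PE.x * PE.x * PE.x * PE.y * PE.x⁻¹ * PE.y * PE.x, .y, false, 2, .y, false, 1),
  (PE.y * PE.x * PE.y * PE.y * PE.x * PE.y⁻¹ * PE.y⁻¹, .x, false, 2, .x, true, 1),
  (PE.y * PE.x * PE.y * PE.y * PE.x * PE.y⁻¹ * PE.y⁻¹, .x, false, 1, .x, false, 3),
  (PE.x⁻¹ * PE.x⁻¹ * PE.y * PE.x⁻¹ * PE.y⁻¹ * PE.y⁻¹ * PE.x⁻¹, .y, false, 2, .y, false, 2),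
  (PE.x * PE.x * PE.y⁻¹ * PE.x⁻¹ * PE.y⁻¹ * PE.x * PE.y * PE.x, .y, false, 1, .y, false, 1),
  (PE.y * PE.x⁻¹ * PE.y⁻¹ * PE.x⁻¹ * PE.y⁻¹ * PE.x * PE.x * PE.y, .x, false, 1, .x, true, 1),
  (PE.v * PE.x⁻¹ * PE.y⁻¹ * PE.v * PE.x⁻¹ * PE.v⁻¹, .x, false, 3, .x, true, 3),
  (PE.y * PE.x⁻¹ * PE.y * PE.v⁻¹ * PE.y * PE.y * PE.x * PE.x, .y, false, 1, .v, true, 1),
  (PE.x * PE.x * PE.v * PE.x * PE.v⁻¹ * PE.y * PE.x, .v, false, 2, .v, true, 2),
  (PE.x * PE.x * PE.v * PE.x * PE.v⁻¹ * PE.y * PE.x * PE.v⁻¹, .y, false, 1, .y, true, 1),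
  (PE.x * PE.v⁻¹ * PE.x * PE.x * PE.v * PE.x * PE.v⁻¹, .y, false, 2, .y, true, 2),
  (PE.v * PE.y * PE.v * PE.x⁻¹ * PE.v * PE.v * PE.x * PE.x, .v, false, 1, .y, true, 1),
  (PE.x * PE.v⁻¹ * PE.y * PE.x * PE.v⁻¹ * PE.x * PE.x * PE.v, .y, false, 1, .y, true, 1),
  (PE.x * PE.x * PE.v * PE.y⁻¹ * PE.x * PE.y⁻¹ * PE.y⁻¹ * PE.x⁻¹, .y, false, 1, .v, false, 1),
  (PE.x * PE.v⁻¹ * PE.y * PE.x * PE.v⁻¹ * PE.x * PE.x, .v, false, 2, .v, true, 2),
  (PE.x * PE.v * PE.x * PE.v⁻¹ * PE.y * PE.x * PE.v⁻¹ * PE.x, .y, false, 1, .y, true, 1),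
  (PE.v * PE.y * PE.v * PE.x * PE.v * PE.y * PE.x * PE.y, .v, false, 1, .y, true, 1) ]

/-- the relator of a datum -/
def p1of (d : FreeGroup PE.Gen × PE.Gen × Bool × ℕ × PE.Gen × Bool × ℕ) : FreeGroup PE.Gen :=
  p1rel d.1 d.2.1 d.2.2.1 d.2.2.2.1 d.2.2.2.2.1 d.2.2.2.2.2.1 d.2.2.2.2.2.2

/-- the word defining `a` -/
def wa : FreeGroup PE.Gen := PE.x * PE.x * PE.v * PE.x * PE.v⁻¹ * PE.y * PE.x * PE.v⁻¹

/-- the central relators -/
def centrals : List (FreeGroup PE.Gen) := [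
  wa * PE.a⁻¹,
  PE.a * PE.x * PE.a⁻¹ * PE.x⁻¹, PE.a * PE.y * PE.a⁻¹ * PE.y⁻¹, PE.a * PE.v * PE.a⁻¹ * PE.v⁻¹ ]

theorem extra_eq : PE.extra = [PE.x ^ 7, PE.y ^ 5, PE.v ^ 5] ++ p1data.map p1of ++ centrals := by
  decide +kernel

theorem hord : ∀ d ∈ p1data, ord d.2.1 = ord d.2.2.2.2.1 ∧ (ord d.2.1 = 5 ∨ ord d.2.1 = 7) := by
  decide

/-! ### consequences of the relators in `E` -/

theorem ea_eq : eg .a = PresentedGroup.mk RE wa := by
  have h := rel_eq_one (wa * PE.a⁻¹) (by decide +kernel)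
  rw [map_mul, map_inv, mul_inv_eq_one] at h
  exact h.symm

theorem ex_pow : eg .x ^ 7 = 1 := by
  have h := rel_eq_one (PE.x ^ 7) (by decide +kernel)
  rwa [map_pow] at h

theorem ey_pow : eg .y ^ 5 = 1 := by
  have h := rel_eq_one (PE.y ^ 5) (by decide +kernel)
  rwa [map_pow] at h

theorem ev_pow : eg .v ^ 5 = 1 := by
  have h := rel_eq_one (PE.v ^ 5) (by decide +kernel)
  rwa [map_pow] at h

/-! ### the lifted generators -/

section Lift

variable {Γ : Type*} [Group Γ]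

/-- the images of `x, y, v` -/
def baseGen (tx ty tv : Γ) : PE.Gen → Γ
  | .x => tx | .y => ty | .v => tv | .a => 1

/-- the images of the generators in a stem extension, from the lifts `tx, ty, tv` of `x, y, v` -/
def liftGen (tx ty tv : Γ) : PE.Gen → Γ
  | .x => tx | .y => ty | .v => tv
  | .a => FreeGroup.lift (baseGen tx ty tv) wa

theorem lift_wa (tx ty tv : Γ) :
    FreeGroup.lift (liftGen tx ty tv) wa = FreeGroup.lift (baseGen tx ty tv) wa := by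
  simp only [wa, map_mul, map_inv, FreeGroup.lift_apply_of, liftGen, baseGen]

variable {G : Type*} [Group G] (τ : E →* G) (σ : Γ →* G) (tx ty tv : Γ)

theorem map_baseGen (htx : σ tx = τ (eg .x)) (hty : σ ty = τ (eg .y)) (htv : σ tv = τ (eg .v))
    (hza : τ (eg .a) = 1) (w : FreeGroup PE.Gen) :
    σ (FreeGroup.lift (baseGen tx ty tv) w) = τ (PresentedGroup.mk RE w) := by
  have : σ.comp (FreeGroup.lift (baseGen tx ty tv)) = τ.comp (PresentedGroup.mk RE) := by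
    ext g
    simp only [MonoidHom.comp_apply, FreeGroup.lift_apply_of]
    cases g
    · exact htx
    · exact hty
    · exact htv
    · rw [mk_of, hza]; exact map_one σ
  exact DFunLike.congr_fun this w

theorem map_liftGen (htx : σ tx = τ (eg .x)) (hty : σ ty = τ (eg .y)) (htv : σ tv = τ (eg .v))
    (hza : τ (eg .a) = 1) (g : PE.Gen) :
    σ (liftGen tx ty tv g) = τ (eg g) := by
  cases g
  · exact htx
  · exact hty
  · exact htv
  · show σ (FreeGroup.lift (baseGen tx ty tv) wa) = _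
    rw [map_baseGen τ σ tx ty tv htx hty htv hza, ea_eq]

theorem map_lift (htx : σ tx = τ (eg .x)) (hty : σ ty = τ (eg .y)) (htv : σ tv = τ (eg .v))
    (hza : τ (eg .a) = 1) (w : FreeGroup PE.Gen) :
    σ (FreeGroup.lift (liftGen tx ty tv) w) = τ (PresentedGroup.mk RE w) := by
  have : σ.comp (FreeGroup.lift (liftGen tx ty tv)) = τ.comp (PresentedGroup.mk RE) := by
    ext g
    simp only [MonoidHom.comp_apply, FreeGroup.lift_apply_of]
    exact map_liftGen τ σ tx ty tv htx hty htv hza g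
  exact DFunLike.congr_fun this w

end Lift

end Cfsg.Agent.Helper96.M22c
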