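import Cfsg.Agent.Helper96.M22c.Kernel

set_option autoImplicit false
set_option maxRecDepth 100000

/-!
# `E` is perfect
-/

namespace Cfsg.Agent.Helper96.M22c

open Cfsg.Agent.Helper28 Cfsg.Spor

section Perfect

variable {C : Type*} [CommGroup C] (f : E →* C)

theorem hom_comm_trivial_gen (g : PE.Gen) : f (eg g) = 1 := by
  suffices hh : Additive.ofMul (f (eg g)) = (0 : Additive C) from hh
  have rel : ∀ r ∈ PE.extra, Additive.ofMul (f (PresentedGroup.mk RE r)) = (0 : Additive C) := by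
    intro r hr
    rw [rel_eq_one r hr, map_one]; rfl
  have r8 := rel (PE.y * PE.x * PE.y * PE.y * PE.x * PE.y⁻¹ * PE.y⁻¹ * PE.x * PE.x * PE.y * PE.y * PE.x⁻¹ * PE.y⁻¹ * PE.y⁻¹ * PE.x⁻¹ * PE.y⁻¹ * PE.x⁻¹) (by decide +kernel)
  have r3 := rel (PE.x * PE.y⁻¹ * PE.y⁻¹ * PE.x * PE.x * PE.x * PE.y * PE.x⁻¹ * PE.x⁻¹ * PE.x⁻¹ * PE.y * PE.y * PE.x⁻¹ * PE.y⁻¹ * PE.y⁻¹) (by decide +kernel)
  have r14 := rel (PE.y * PE.x⁻¹ * PE.y * PE.v⁻¹ * PE.y * PE.y * PE.x * PE.x * PE.y * PE.x⁻¹ * PE.x⁻¹ * PE.y⁻¹ * PE.y⁻¹ * PE.v * PE.y⁻¹ * PE.x * PE.y⁻¹ * PE.v⁻¹) (by decide +kernel)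
  have ra := rel (PE.x * PE.x * PE.v * PE.x * PE.v⁻¹ * PE.y * PE.x * PE.v⁻¹ * PE.a⁻¹) (by decide +kernel)
  simp only [map_mul, map_inv, mk_of, ofMul_mul, ofMul_inv] at r8 r3 r14 ra
  set X : Additive C := Additive.ofMul (f (eg .x)) with hX
  set Y : Additive C := Additive.ofMul (f (eg .y)) with hY
  set V : Additive C := Additive.ofMul (f (eg .v)) with hV
  set A : Additive C := Additive.ofMul (f (eg .a)) with hA
  have eX : X = 0 := by
    have e : X = Y + X + Y + Y + X + -Y + -Y + X + X + Y + Y + -X + -Y + -Y + -X + -Y + -X := by abel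
    rw [e, r8]
  have eY : Y = 0 := by
    have e : Y = -(X + -Y + -Y + X + X + X + Y + -X + -X + -X + Y + Y + -X + -Y + -Y) := by abel
    rw [e, r3, neg_zero]
  have eV : V = 0 := by
    have e : V = Y - (Y + -X + Y + -V + Y + Y + X + X + Y + -X + -X + -Y + -Y + V + -Y + X + -Y + -V) := by abel
    rw [e, r14, eY]; simp
  have eA : A = 0 := by
    have e : A = (X + X + X + X + Y - V) - (X + X + V + X + -V + Y + X + -V + -A) := by abel
    rw [e, ra, eX, eY, eV]; simp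
  cases g
  · exact eX
  · exact eY
  · exact eV
  · exact eA

end Perfect

theorem commutator_E : commutator E = ⊤ := by
  rw [eq_top_iff, ← closure_eg, Subgroup.closure_le]
  rintro _ ⟨g, rfl⟩
  have h := hom_comm_trivial_gen (Abelianization.of : E →* Abelianization E) g
  exact (QuotientGroup.eq_one_iff _).mp h

end Cfsg.Agent.Helper96.M22c
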