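import Cfsg.Agent.Helper96.M22c.Kernel2
import Cfsg.Agent.Helper96.M22c.Perfect
import Cfsg.Agent.Helper96.M22c.Lift2
import Cfsg.Agent.Helper66.Sz8P1
import Cfsg.Agent.Helper12.Sz8P2

set_option autoImplicit false
set_option maxRecDepth 100000

/-!
# `E` maps onto every finite stem extension of a group `G` of order `443520` onto which it maps killing `a`
-/

namespace Cfsg.Agent.Helper96.M22c

open Cfsg.Agent.Helper28 Cfsg.Spor

section Main

variable {G : Type*} [Group G] (τ : E →* G)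

theorem card_ker_le (hτ : Function.Surjective τ) (hG : Nat.card G = 443520) : Nat.card τ.ker ≤ 12 := by
  haveI := card_E.1
  have h1 : Nat.card E = Nat.card G * Nat.card τ.ker := by
    rw [Subgroup.card_eq_card_quotient_mul_card_subgroup τ.ker,
      Nat.card_congr (QuotientGroup.quotientKerEquivOfSurjective τ hτ).toEquiv]
  have h2 := card_E.2
  rw [h1, hG] at h2
  omega

/-- every finite stem extension of `G` is a quotient of `E` -/
theorem exists_lift (hτ : Function.Surjective τ) (hG : Nat.card G = 443520) (ha : τ (eg .a) = 1)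
    {Γ : Type*} [Group Γ] [Finite Γ] (σ : Γ →* G)
    (hσ : Cfsg.IsStemExtension σ) : ∃ φ : E →* Γ, σ.comp φ = τ := by
  have : Finite G := Nat.finite_of_card_ne_zero (by rw [hG]; norm_num)
  have : Fact (Nat.Prime 7) := ⟨by norm_num⟩
  have : Fact (Nat.Prime 5) := ⟨by norm_num⟩
  have n7 : ¬ 7 ∣ Nat.card σ.ker :=
    Cfsg.Agent.Helper12.Sz8.stem_ker_not_dvd_of_cyclic_sylow σ hσ 7
      (fun P => Cfsg.Agent.Helper12.Sz8.sylow_cyclic_of_card 7 63360 (by rw [hG]) (by norm_num) P)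
  have n5 : ¬ 5 ∣ Nat.card σ.ker :=
    Cfsg.Agent.Helper12.Sz8.stem_ker_not_dvd_of_cyclic_sylow σ hσ 5
      (fun P => Cfsg.Agent.Helper12.Sz8.sylow_cyclic_of_card 5 88704 (by rw [hG]) (by norm_num) P)
  have h7 : (Nat.card σ.ker).Coprime 7 :=
    ((Nat.Prime.coprime_iff_not_dvd (by norm_num)).2 n7).symm
  have h5 : (Nat.card σ.ker).Coprime 5 :=
    ((Nat.Prime.coprime_iff_not_dvd (by norm_num)).2 n5).symm
  obtain ⟨hs, hcen, -⟩ := hσ
  obtain ⟨tx, ⟨htx, htx7⟩, -⟩ := Cfsg.Agent.Helper66.Sz8.existsUnique_lift_pow σ hs hcen 7 h7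
    (τ (eg .x)) (by rw [← map_pow, ex_pow, map_one])
  obtain ⟨ty, ⟨hty, hty5⟩, -⟩ := Cfsg.Agent.Helper66.Sz8.existsUnique_lift_pow σ hs hcen 5 h5
    (τ (eg .y)) (by rw [← map_pow, ey_pow, map_one])
  obtain ⟨tv, ⟨htv, htv5⟩, -⟩ := Cfsg.Agent.Helper66.Sz8.existsUnique_lift_pow σ hs hcen 5 h5
    (τ (eg .v)) (by rw [← map_pow, ev_pow, map_one])
  have hrels := lift_rels τ σ hcen h5 h7 tx ty tv htx hty htv htx7 hty5 htv5 ha
  refine ⟨PresentedGroup.toGroup hrels, ?_⟩
  apply PresentedGroup.ext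
  intro g
  rw [MonoidHom.comp_apply]
  show σ (PresentedGroup.toGroup hrels (PresentedGroup.of g)) = τ (eg g)
  rw [PresentedGroup.toGroup.of]
  exact map_liftGen τ σ tx ty tv htx hty htv ha g

end Main

end Cfsg.Agent.Helper96.M22c
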