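import Cfsg.Agent.Helper96.M22c.Main
import Cfsg.Agent.Helper7.L34F1
import Cfsg.Agent.Helper22.M22cK1c

set_option autoImplicit false

/-!
# A group of order `443520` that is the quotient of `E` by `⟨a⟩` has cyclic Schur multiplier of order `12`
-/

namespace Cfsg.Agent.Helper96.M22c

open Cfsg.Agent.Helper28 Cfsg.Spor

universe u

theorem hasSchurMultiplier_of_tau {G : Type u} [Group G] (τ : E →* G) (hτ : Function.Surjective τ)
    (hG : Nat.card G = 443520) (ha : τ (eg .a) = 1) :
    Cfsg.HasCyclicSchurMultiplier G 12 := by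
  haveI := card_E.1
  have hK := card_ker_le τ hτ hG
  have haK : eg .a ∈ τ.ker := ha
  obtain ⟨hcen, ⟨e⟩⟩ := Cfsg.Agent.Helper22.M22c.kernel_cyclic psi τ.ker 12 (by norm_num) hK (eg .a)
    ea_center haK psi_a_pow_ne
  have hstem : Cfsg.IsStemExtension τ := ⟨hτ, hcen, by rw [commutator_E]; exact le_top⟩
  exact Cfsg.Agent.Helper7.L34.hasSchurMultiplier_of_universal τ hstem _ e
    (fun Γ _ _ σ hσ => exists_lift τ hτ hG ha σ hσ)

end Cfsg.Agent.Helper96.M22c
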