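import Cfsg.Agent.Helper96.M22c.CertX.Main
import Cfsg.Agent.Helper96.M22c.CertB.Main
import Cfsg.Agent.Helper96.M22c.CertE.Main
import Cfsg.Agent.Helper28.SubPres

set_option autoImplicit false

/-!
# The order of the presented covering group `PE` is at most `5322240 = 12 * |M₂₂|`
-/

namespace Cfsg.Agent.Helper96.M22c

open Cfsg.Agent.Helper28 Cfsg.Spor

/-- the relators of `PE` -/
abbrev RE : Set (FreeGroup PE.Gen) := coxRels PE.edges PE.extra
/-- the relators of `PB` -/
abbrev RB : Set (FreeGroup PB.Gen) := coxRels PB.edges PB.extra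
/-- the relators of `PX` -/
abbrev RX : Set (FreeGroup PX.Gen) := coxRels PX.edges PX.extra

/-- the covering group -/
abbrev E : Type := PresentedGroup RE

theorem card_PX : Finite (PresentedGroup RX) ∧ Nat.card (PresentedGroup RX) = 7 := by
  refine card_of_index_bot RX CertX.Y ?_ 7 (by norm_num) CertX.main_index
  ext y; simp [CertX.Ylist]

/-- inclusion of the generators of `PX` in `PB` -/
def iotaXB : PX.Gen → PB.Gen
  | .x => .x

/-- inclusion of the generators of `PB` in `PE` -/
def iotaBE : PB.Gen → PE.Gen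
  | .x => .x | .y => .y

theorem hextraXB : ∀ r ∈ PX.extra, FreeGroup.map iotaXB r ∈ PB.extra := by decide +kernel

theorem hextraBE : ∀ r ∈ PB.extra, FreeGroup.map iotaBE r ∈ PE.extra := by decide +kernel

theorem hrelsXB : ∀ r ∈ RX, PresentedGroup.mk RB (FreeGroup.map iotaXB r) = 1 :=
  subdiagram_rels iotaXB PX.edges PX.extra PB.edges PB.extra (by decide)
    (fun r hr => Or.inr (hextraXB r hr))

theorem hrelsBE : ∀ r ∈ RB, PresentedGroup.mk RE (FreeGroup.map iotaBE r) = 1 :=
  subdiagram_rels iotaBE PB.edges PB.extra PE.edges PE.extra (by decide)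
    (fun r hr => Or.inr (hextraBE r hr))

theorem hYB : CertB.Y = Set.range (fun b => FreeGroup.of (iotaXB b)) := by
  ext y
  constructor
  · intro hy
    have hy' : y ∈ CertB.Ylist := hy
    simp only [CertB.Ylist, List.mem_singleton] at hy'
    exact ⟨.x, hy'.symm⟩
  · rintro ⟨b, rfl⟩
    cases b
    show _ ∈ CertB.Ylist
    simp [CertB.Ylist, iotaXB]

theorem hYE : CertE.Y = Set.range (fun b => FreeGroup.of (iotaBE b)) := by
  ext y
  constructor
  · intro hy
    have hy' : y ∈ CertE.Ylist := hy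
    simp only [CertE.Ylist, List.mem_cons, List.not_mem_nil, or_false] at hy'
    rcases hy' with rfl | rfl
    · exact ⟨.x, rfl⟩
    · exact ⟨.y, rfl⟩
  · rintro ⟨b, rfl⟩
    show _ ∈ CertE.Ylist
    cases b <;> simp [CertE.Ylist, iotaBE]

theorem card_PB : Finite (PresentedGroup RB) ∧ Nat.card (PresentedGroup RB) ≤ 2160 * 7 := by
  obtain ⟨h1, h2, -⟩ := card_le_of_link iotaXB RX RB hrelsXB CertB.Y hYB 2160 7 (by norm_num)
    CertB.main_index card_PX.1 (le_of_eq card_PX.2)
  exact ⟨h1, h2⟩

theorem card_E : Finite E ∧ Nat.card E ≤ 5322240 := by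
  obtain ⟨h1, h2, -⟩ := card_le_of_link iotaBE RB RE hrelsBE CertE.Y hYE 352 (2160 * 7) (by norm_num)
    CertE.main_index card_PB.1 card_PB.2
  exact ⟨h1, by norm_num at h2 ⊢; exact h2⟩

end Cfsg.Agent.Helper96.M22c
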